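import Groth.Agent.Etbc.H189.CoreDev
import Groth.Agent.EtpbcB.TorsVanN
import Groth.Agent.Etbc.H183.LTors
import Groth.Agent.SGA4h.K557.BcQ
import Groth.Agent.EtpbcB.NKillH

/-!
# Comparison of cohomology along a base change with a base change theorem

Let `gP : XP ⟶ P` be a base change of `g : X ⟶ Y` along `r : P ⟶ Y` (projection `r' : XP ⟶ X`).

* `compN`: if `CompN g L n` and the base change maps `g⁻¹ R^i r_* ⟶ R^i r'_* gP⁻¹` are isomorphisms for `i ≤ n` on
  `L`-torsion sheaves, then `CompN gP L n`;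
* `mem_range`: if moreover `r` is surjective, a class in `H^{n+1}(X, g⁻¹F)` comes from `Y` if its pullback to `XP`
  comes from `P`;
* `compN_of_desc`: descent of the comparison condition along `r`.
-/

set_option autoImplicit false
universe u
open CategoryTheory CategoryTheory.Limits AlgebraicGeometry Opposite Abelian
open scoped Groth.Agent.Etcore.EtInst
open Groth.Agent.Etcore Groth.Agent.Etcore.EtInst Groth.Agent.Etcore.HpullCalc
open Groth.Agent.Etcore.HQ Groth.Agent.Etcore.RpushLoc Groth.Agent.Etbc.H194.Edge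
open Groth.Agent.Etbc.H189.CoreDev Groth.Agent.Etbc.H183.LTors Groth.Agent.EtpbcB.TorsEtN Groth.Agent.EtpbcB.TorsVanN

namespace K86.Comp

attribute [local instance] pfl

variable {X Y P XP : Scheme.{u}} {g : X ⟶ Y} {r : P ⟶ Y} {r' : XP ⟶ X} {gP : XP ⟶ P}

theorem isIso_baseChange0 (w : gP ≫ r = r' ≫ g) (E : EtCoh.Ab P) (h : IsIso (K557.BcQ.bq w 0 E)) :
    IsIso (EtCoh.baseChange0 r g r' gP w E) := by
  have h1 := K557.BcQ.toRightDerivedZero_bq w E
  have h2 : IsIso (EtCoh.baseChange0 r g r' gP w E ≫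
      (EtCoh.push r').toRightDerivedZero.app ((EtCoh.pull gP).obj E)) := by
    rw [← h1]
    infer_instance
  exact IsIso.of_isIso_comp_right _ ((EtCoh.push r').toRightDerivedZero.app ((EtCoh.pull gP).obj E))

theorem isZero_Rpush (w : gP ≫ r = r' ≫ g) (E : EtCoh.Ab P) (q : ℕ) (h : IsIso (K557.BcQ.bq w q E))
    (hz : IsZero ((EtCoh.Rpush r q).obj E)) : IsZero ((EtCoh.Rpush r' q).obj ((EtCoh.pull gP).obj E)) :=
  IsZero.of_iso ((EtCoh.pull g).map_isZero hz) (asIso (K557.BcQ.bq w q E)).symm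

/-- Acyclicity. -/
structure Ac (r : P ⟶ Y) (I : EtCoh.Ab P) : Prop where
  H : ∀ (q : ℕ) (x : HH P I (q + 1)), x = 0
  R : ∀ q : ℕ, IsZero ((EtCoh.Rpush r (q + 1)).obj I)

theorem ac_torsN [CompactSpace P] [QuasiSeparatedSpace P] (r : P ⟶ Y) [QuasiCompact r] [QuasiSeparated r]
    (L : Set ℕ) (J : EtCoh.Ab P) [Injective J] :
    Ac r (Groth.Agent.EtpbcB.TorsSubN.torsN (ord L) J) where
  H q _ := (H_torsN (isOrd L) J (q + 1) (Nat.succ_pos q)).elim _ _
  R q := acyclic_push_torsN (isOrd L) r J (q + 1) (Nat.succ_pos q)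

theorem ac_tor (r : P ⟶ Y) {m : ℕ} (hm : 0 < m) (J : EtCoh.Ab P) [Injective J] :
    Ac r (Groth.Agent.EtpbcB.NKill.tor m J) where
  H q _ := (Groth.Agent.EtpbcB.NKillH.H_tor J hm (q + 1) (Nat.succ_pos q)).elim _ _
  R q := Groth.Agent.EtpbcB.NKillEt.acyclic_push_tor r J hm (q + 1) (Nat.succ_pos q)

section Inj

variable (w : gP ≫ r = r' ≫ g) {I : EtCoh.Ab P} (hI : Ac r I)

theorem edg_of_van (N : EtCoh.Ab XP) (n : ℕ) (hz : ∀ q : ℕ, q + 1 ≤ n → IsZero ((EtCoh.Rpush r' (q + 1)).obj N)) :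
    (∀ q, q ≤ n → Function.Bijective (edg r' N q)) ∧ Function.Injective (edg r' N (n + 1)) := by
  refine edg_low r' n _ fun q hq1 hq => ?_
  obtain ⟨m, rfl⟩ : ∃ m, q = m + 1 := ⟨q - 1, by omega⟩
  exact (isZero_Rpush_iff r' _ m).1 (hz m hq)

include hI in
theorem eq_zero_push (q : ℕ) (x : HH Y ((EtCoh.push r).obj I) (q + 1)) : x = 0 :=
  ((edg_of_van (r' := r) I (q + 1) (fun q _ => hI.R q)).1 (q + 1) le_rfl).1 ((hI.H q _).trans (hI.H q _).symm)

theorem edg_square_fun (q : ℕ) : (fun x : HH Y ((EtCoh.push r).obj I) q =>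
      edg r' ((EtCoh.pull gP).obj I) q (HHmap (EtCoh.baseChange0 r g r' gP w I) q (hp g _ q x))) =
      (hp gP I q) ∘ (edg r I q) := funext fun x => edg_square w _ q x

include hI in
theorem comp_ac {n : ℕ} (h0 : IsIso (EtCoh.baseChange0 r g r' gP w I))
    (hz : ∀ q : ℕ, q + 1 ≤ n → IsZero ((EtCoh.Rpush r' (q + 1)).obj ((EtCoh.pull gP).obj I)))
    (hc : ∀ q, q ≤ n → Function.Bijective (hp g ((EtCoh.push r).obj I) q)) :
    (∀ q, q ≤ n → Function.Bijective (hp gP I q)) ∧ Function.Injective (hp gP I (n + 1)) := by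
  have hed := edg_of_van _ n hz
  refine ⟨fun q hq => ?_, fun a b _ => (hI.H n a).trans (hI.H n b).symm⟩
  have hcomp : Function.Bijective (fun x : HH Y ((EtCoh.push r).obj I) q =>
      edg r' ((EtCoh.pull gP).obj I) q (HHmap (EtCoh.baseChange0 r g r' gP w I) q (hp g _ q x))) :=
    ((hed.1 q hq).comp (HHmap_bijective _ q)).comp (hc q hq)
  rw [edg_square_fun w q] at hcomp
  rcases Nat.eq_zero_or_pos q with rfl | hq1
  · exact (Function.Bijective.of_comp_iff _ (edg_zero_bijective r _)).1 hcomp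
  · obtain ⟨m, rfl⟩ : ∃ m, q = m + 1 := ⟨q - 1, by omega⟩
    exact ⟨fun a b _ => (hI.H m a).trans (hI.H m b).symm, hcomp.2.of_comp⟩

include hI in
/-- The comparison for `r_* I`. -/
theorem comp_push {n : ℕ} (h0 : IsIso (EtCoh.baseChange0 r g r' gP w I))
    (hz : ∀ q : ℕ, q + 1 ≤ n → IsZero ((EtCoh.Rpush r' (q + 1)).obj ((EtCoh.pull gP).obj I)))
    (hc : ∀ q, q ≤ n + 1 → Function.Bijective (hp gP I q)) :
    (∀ q, q ≤ n + 1 → Function.Bijective (hp g ((EtCoh.push r).obj I) q)) ∧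
      Function.Injective (hp g ((EtCoh.push r).obj I) (n + 2)) := by
  have hed := edg_of_van _ n hz
  refine ⟨fun q hq => ?_, fun a b _ => (eq_zero_push hI _ a).trans (eq_zero_push hI _ b).symm⟩
  rcases Nat.eq_zero_or_pos q with rfl | hq1
  · have h1 : Function.Bijective (fun x : HH Y ((EtCoh.push r).obj I) 0 =>
        edg r' ((EtCoh.pull gP).obj I) 0 (HHmap (EtCoh.baseChange0 r g r' gP w I) 0 (hp g _ 0 x))) := by
      rw [edg_square_fun w 0]
      exact (hc 0 (Nat.zero_le _)).comp (edg_zero_bijective r _)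
    have h2 : Function.Bijective ((edg r' ((EtCoh.pull gP).obj I) 0) ∘
        (HHmap (EtCoh.baseChange0 r g r' gP w I) 0)) :=
      (hed.1 0 (Nat.zero_le _)).comp (HHmap_bijective _ 0)
    exact (Function.Bijective.of_comp_iff' h2 _).1 h1
  · obtain ⟨i, rfl⟩ : ∃ i, q = i + 1 := ⟨q - 1, by omega⟩
    refine ⟨fun a b _ => (eq_zero_push hI i a).trans (eq_zero_push hI i b).symm, fun y => ⟨0, ?_⟩⟩
    have h2 : Function.Injective (edg r' ((EtCoh.pull gP).obj I) (i + 1)) := by
      rcases Nat.lt_or_ge i n with h | h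
      · exact (hed.1 (i + 1) h).1
      · obtain rfl : i = n := by omega
        exact hed.2
    have h3 : ∀ z : HH XP ((EtCoh.pull gP).obj I) (i + 1), z = 0 := by
      intro z
      obtain ⟨x, rfl⟩ := (hc (i + 1) hq).2 z
      have hx : x = 0 := hI.H i x
      rw [hx]
      exact map_zero (hp gP _ (i + 1))
    rw [map_zero]
    symm
    apply (HHmap_bijective (EtCoh.baseChange0 r g r' gP w I) (i + 1)).1
    apply h2
    rw [map_zero, map_zero]
    exact h3 _

end Inj

section tors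

variable [CompactSpace P] [QuasiSeparatedSpace P] [QuasiCompact r] [QuasiSeparated r]

theorem compN (w : gP ≫ r = r' ≫ g) {L : Set ℕ} {n : ℕ} (hg : EtAcyc.CompN g L n)
    (hbc : ∀ E : EtCoh.Ab P, EtAcyc.IsLTorsion L E → ∀ i : ℕ, i ≤ n → IsIso (K557.BcQ.bq w i E)) :
    EtAcyc.CompN gP L n := by
  intro F hF _
  refine devissage gP (EtAcyc.IsLTorsion L) n (fun F hF => ?_) F hF
  obtain ⟨J, _, i, hi⟩ := exists_mono_torsN (N := ord L) F hF
  have hE := isLTorsion_torsN (L := L) J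
  have hA := ac_torsN r L J
  exact ⟨_, i, hi, isLTorsion_of_epi (cokernel.π i) hE,
    comp_ac w hA (isIso_baseChange0 w _ (hbc _ hE 0 (Nat.zero_le _)))
      (fun q hq => isZero_Rpush w _ _ (hbc _ hE _ hq) (hA.R q))
      fun q hq => (hg _ (isLTorsion_push r hE)).1 q hq⟩

omit [CompactSpace P] [QuasiSeparatedSpace P] [QuasiCompact r] [QuasiSeparated r] in
/-- The embedding of `F` in `r_* I`. -/
theorem exists_emb [Surjective r] (F : EtCoh.Ab Y) {I : EtCoh.Ab P} (l : (EtCoh.pull r).obj F ⟶ I) [Mono l] :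
    ∃ i : F ⟶ (EtCoh.push r).obj I, Mono i ∧
      (EtCoh.pull r).map i ≫ (EtCoh.pullPushAdj r).counit.app _ = l := by
  refine ⟨(EtCoh.pullPushAdj r).unit.app F ≫ (EtCoh.push r).map l, ?_, ?_⟩
  · have := FieldDesc621.mono_unit_of_surjective r F
    infer_instance
  · rw [Functor.map_comp, Category.assoc]
    have h1 : (EtCoh.pull r).map ((EtCoh.push r).map l) ≫ (EtCoh.pullPushAdj r).counit.app _ =
      (EtCoh.pullPushAdj r).counit.app _ ≫ l := (EtCoh.pullPushAdj r).counit.naturality l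
    rw [h1, Adjunction.left_triangle_components_assoc]

theorem mem_range [Surjective r] (w : gP ≫ r = r' ≫ g) {L : Set ℕ} {n : ℕ} (hg : EtAcyc.CompN g L n)
    (hbc : ∀ E : EtCoh.Ab P, EtAcyc.IsLTorsion L E → ∀ i : ℕ, i ≤ n → IsIso (K557.BcQ.bq w i E))
    (F : EtCoh.Ab Y) (hF : EtAcyc.IsLTorsion L F) (ξ : HH X ((EtCoh.pull g).obj F) (n + 1))
    (η : HH P ((EtCoh.pull r).obj F) (n + 1))
    (h : HHmap ((Groth.Agent.Etrest.DEtMate.cmp w).hom.app F) (n + 1) (hp r' _ (n + 1) ξ) = hp gP _ (n + 1) η) :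
    ∃ x : HH Y F (n + 1), hp g F (n + 1) x = ξ := by
  obtain ⟨J, _, l, hl⟩ := exists_mono_torsN (N := ord L) ((EtCoh.pull r).obj F) (isLTorsion_pull r hF)
  have hE := isLTorsion_torsN (L := L) J
  have hA := ac_torsN r L J
  obtain ⟨i, hi, hil⟩ := exists_emb (r := r) F l
  have hS : (ShortComplex.mk i (cokernel.π i) (cokernel.condition i)).ShortExact :=
    { exact := ShortComplex.exact_cokernel i }
  have hC : EtAcyc.IsLTorsion L (cokernel i) := isLTorsion_of_epi (cokernel.π i) (isLTorsion_push r hE)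
  have h0 := isIso_baseChange0 w _ (hbc _ hE 0 (Nat.zero_le _))
  have hed := edg_of_van (r' := r') _ n fun q hq => isZero_Rpush w _ _ (hbc _ hE _ hq) (hA.R q)
  -- the image of `ξ` vanishes
  have hz : HHmap ((EtCoh.pull g).map i) (n + 1) ξ = 0 := by
    apply (HHmap_bijective (EtCoh.baseChange0 r g r' gP w _) (n + 1)).1
    apply hed.2
    rw [map_zero, map_zero, ← HHmap_comp, edg_homEquiv]
    have h2 : (EtCoh.pull r').map ((EtCoh.pull g).map i ≫ EtCoh.baseChange0 r g r' gP w _) ≫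
        (EtCoh.pullPushAdj r').counit.app ((EtCoh.pull gP).obj _) =
        (Groth.Agent.Etrest.DEtMate.cmp w).hom.app F ≫ (EtCoh.pull gP).map l := by
      rw [Functor.map_comp, Category.assoc, FieldDesc621.hbc w]
      have h3 : (EtCoh.pull r').map ((EtCoh.pull g).map i) ≫ (Groth.Agent.Etrest.DEtMate.cmp w).hom.app _ =
        (Groth.Agent.Etrest.DEtMate.cmp w).hom.app F ≫ (EtCoh.pull gP).map ((EtCoh.pull r).map i) :=
        (Groth.Agent.Etrest.DEtMate.cmp w).hom.naturality i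
      rw [reassoc_of% h3, ← Functor.map_comp, hil]
    rw [h2, HHmap_comp, h, ← hp_map, hA.H n (HHmap l (n + 1) η), map_zero]
  obtain ⟨y, hy⟩ := (ExtMap.exact_δf (hS.map_of_exact (EtCoh.pull g)) (EtCoh.const X ℤ) rfl ξ).1 hz
  obtain ⟨z, hz'⟩ := ((hg _ hC).1 n le_rfl).2 y
  refine ⟨Ext.comp z hS.extClass rfl, ?_⟩
  rw [hp_extClass g hS rfl z]
  have hz'' : hp g (cokernel i) n z = y := hz'
  rw [hz'']
  exact hy

end tors

section desc

open Groth.Agent.EtpbcB.NKill Groth.Agent.EtpbcB.NKillEt Groth.Agent.EtpbcB.TorsSubN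

/-- Descent of the comparison condition along a surjective morphism, sheaves killed by `m`. -/
theorem comp_of_desc [Surjective r] (w : gP ≫ r = r' ≫ g) {L : Set ℕ} {n : ℕ}
    (hgP : EtAcyc.CompN gP L (n + 1)) {m : ℕ} (hm : EtAcyc.PrimesIn L m)
    (h0 : ∀ J : EtCoh.Ab P, Injective J → IsIso (EtCoh.baseChange0 r g r' gP w (tor m J)))
    (hz : ∀ J : EtCoh.Ab P, Injective J → ∀ q : ℕ, q + 1 ≤ n →
      IsZero ((EtCoh.Rpush r' (q + 1)).obj ((EtCoh.pull gP).obj (tor m J)))) (F : EtCoh.Ab Y)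
    (hF : EtCoh.KilledBy m F) : (∀ q, q ≤ n + 1 → Function.Bijective (hp g F q)) ∧
      Function.Injective (hp g F (n + 2)) := by
  refine devissage g (EtCoh.KilledBy m) (n + 1) (fun F hF => ?_) F hF
  obtain ⟨J, hJ, l, hl⟩ := exists_mono_tor ((killedBy_iff m _).1 (killedBy_pull r hF))
  obtain ⟨i, hi, -⟩ := exists_emb (r := r) F l
  have hK : EtCoh.KilledBy m (tor m J) := (killedBy_iff m _).2 (killed_tor m J)
  exact ⟨_, i, hi, (killedBy_iff m _).2 (killed_of_epi (cokernel.π i) ((killedBy_iff m _).1 (killedBy_push r hK))),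
    comp_push w (ac_tor r hm.1 J) (h0 J hJ) (hz J hJ)
      fun q hq => (hgP _ (isLTorsion_tor hm J)).1 q hq⟩

/-- The comparison maps as a natural transformation. -/
noncomputable def hpN (g : X ⟶ Y) (q : ℕ) : EtCoh.HF Y q ⟶ EtCoh.pull g ⋙ EtCoh.HF X q where
  app F := AddCommGrpCat.ofHom (hp g F q)
  naturality F G φ := by
    ext x
    exact hp_map g φ q x

/-- Injectivity passes to sequential colimits. -/
theorem injective_coconePt {C : Type*} [Category C] (K : ℕ ⥤ C) {S T : C ⥤ AddCommGrpCat.{u + 1}} (α : S ⟶ T)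
    (c : Cocone K) (hc : IsColimit c) [PreservesColimit K S] [PreservesColimit K T]
    (h : ∀ k, Function.Injective (α.app (K.obj k))) : Function.Injective (α.app c.pt) := by
  have : PreservesFilteredColimitsOfSize.{0, 0} (forget AddCommGrpCat.{u + 1}) :=
    preservesSmallestFilteredColimits_of_preservesFilteredColimits _
  refine (injective_iff_map_eq_zero _).2 fun x hx => ?_
  obtain ⟨k, y, rfl⟩ := Concrete.isColimit_exists_rep (K ⋙ S) (isColimitOfPreserves S hc) x
  have h1 : T.map (c.ι.app k) (α.app (K.obj k) y) = 0 := by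
    have e := ConcreteCategory.congr_hom (α.naturality (c.ι.app k)) y
    exact e.symm.trans hx
  have h2 : (T.mapCocone c).ι.app k (α.app (K.obj k) y) = (T.mapCocone c).ι.app k 0 :=
    h1.trans (map_zero _).symm
  obtain ⟨l, f, g, h3⟩ := Concrete.isColimit_exists_of_rep_eq (K ⋙ T) (isColimitOfPreserves T hc) _ _ h2
  have h4 : S.map (K.map f) y = 0 := by
    apply h l
    have e := ConcreteCategory.congr_hom (α.naturality (K.map f)) y
    exact (e.trans h3).trans ((map_zero _).trans (map_zero _).symm)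
  have h5 : S.map (c.ι.app k) y = S.map (c.ι.app l) (S.map (K.map f) y) := by
    rw [← ConcreteCategory.comp_apply, ← S.map_comp, c.w f]
  exact h5.trans (by rw [h4, map_zero])

/-- Bijectivity passes to sequential colimits. -/
theorem bijective_coconePt {C : Type*} [Category C] (K : ℕ ⥤ C) {S T : C ⥤ AddCommGrpCat.{u + 1}} (α : S ⟶ T)
    (c : Cocone K) (hc : IsColimit c) [PreservesColimit K S] [PreservesColimit K T]
    (h : ∀ k, Function.Bijective (α.app (K.obj k))) : Function.Bijective (α.app c.pt) := by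
  have : PreservesFilteredColimitsOfSize.{0, 0} (forget AddCommGrpCat.{u + 1}) :=
    preservesSmallestFilteredColimits_of_preservesFilteredColimits _
  refine ⟨injective_coconePt K α c hc fun k => (h k).1, fun x => ?_⟩
  obtain ⟨k, y, rfl⟩ := Concrete.isColimit_exists_rep (K ⋙ T) (isColimitOfPreserves T hc) x
  obtain ⟨z, rfl⟩ := (h k).2 y
  exact ⟨S.map (c.ι.app k) z, ConcreteCategory.congr_hom (α.naturality (c.ι.app k)) z⟩

/-- From killed sheaves to torsion sheaves. -/
theorem comp_of_killed [CompactSpace X] [QuasiSeparatedSpace X] [CompactSpace Y] [QuasiSeparatedSpace Y]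
    {N : Set ℕ} (hN : IsOrd N) (q : ℕ) (F : EtCoh.Ab Y) (hF : TorsionN N F) :
    ((∀ m ∈ N, ∀ G : EtCoh.Ab Y, EtCoh.KilledBy m G → Function.Bijective (hp g G q)) →
      Function.Bijective (hp g F q)) ∧
    ((∀ m ∈ N, ∀ G : EtCoh.Ab Y, EtCoh.KilledBy m G → Function.Injective (hp g G q)) →
      Function.Injective (hp g F q)) := by
  have := isIso_torsNι F hF
  have := Groth.Agent.EtpbcB.TorsVan.preservesNat_HF X q
  have := Groth.Agent.EtpbcB.TorsVan.preservesNat_HF Y q
  have := Groth.Agent.EtpbcB.TorsVan.preservesNat_pull g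
  have hc := colimit.isColimit (torDiag N F)
  have e1 : ∀ x, HHmap ((EtCoh.pull g).map (torsNι N F)) q (hp g (torsN N F) q x) =
      hp g F q (HHmap (torsNι N F) q x) := fun x => (hp_map g (torsNι N F) q x).symm
  have b1 := HHmap_bijective (torsNι N F) q
  have b2 := HHmap_bijective ((EtCoh.pull g).map (torsNι N F)) q
  have e2 : (hp g F q : _ → _) ∘ (HHmap (torsNι N F) q) =
      (HHmap ((EtCoh.pull g).map (torsNι N F)) q) ∘ (hp g (torsN N F) q) := funext fun x => (e1 x).symm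
  constructor
  · intro h
    have h2 : Function.Bijective (hp g (torsN N F) q) := bijective_coconePt (torDiag N F) (hpN g q) _ hc
      fun k => h _ (hN.seq_mem k) _ ((killedBy_iff _ _).2 (killed_tor _ _))
    refine (Function.Bijective.of_comp_iff _ b1).1 ?_
    rw [e2]
    exact b2.comp h2
  · intro h
    have h2 : Function.Injective (hp g (torsN N F) q) := injective_coconePt (torDiag N F) (hpN g q) _ hc
      fun k => h _ (hN.seq_mem k) _ ((killedBy_iff _ _).2 (killed_tor _ _))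
    refine (Function.Injective.of_comp_iff' _ b1).1 ?_
    rw [e2]
    exact b2.1.comp h2

/-- **Descent of the comparison condition along a surjective morphism.** -/
theorem compN_of_desc [CompactSpace X] [QuasiSeparatedSpace X] [CompactSpace Y] [QuasiSeparatedSpace Y]
    [Surjective r] (w : gP ≫ r = r' ≫ g) {L : Set ℕ} {n : ℕ} (hgP : EtAcyc.CompN gP L (n + 1))
    (h0 : ∀ m, EtAcyc.PrimesIn L m → ∀ J : EtCoh.Ab P, Injective J →
      IsIso (EtCoh.baseChange0 r g r' gP w (tor m J)))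
    (hz : ∀ m, EtAcyc.PrimesIn L m → ∀ J : EtCoh.Ab P, Injective J → ∀ q : ℕ, q + 1 ≤ n →
      IsZero ((EtCoh.Rpush r' (q + 1)).obj ((EtCoh.pull gP).obj (tor m J)))) :
    EtAcyc.CompN g L (n + 1) := by
  intro F hF _
  refine ⟨fun q hq => (comp_of_killed (isOrd L) q F hF).1 fun m hm G hG => ?_,
    (comp_of_killed (isOrd L) (n + 2) F hF).2 fun m hm G hG => ?_⟩
  · exact (comp_of_desc w hgP hm (h0 m hm) (hz m hm) G hG).1 q hq
  · exact (comp_of_desc w hgP hm (h0 m hm) (hz m hm) G hG).2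

end desc

end K86.Comp
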