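import Groth.Agent.EtBC.K86.Comp

/-!
# The range statement with relative pullbacks
-/

set_option autoImplicit false
universe u
open CategoryTheory CategoryTheory.Limits AlgebraicGeometry Opposite Abelian
open scoped Groth.Agent.Etcore.EtInst
open Groth.Agent.Etcore Groth.Agent.Etcore.EtInst Groth.Agent.Etcore.HpullCalc
open Groth.Agent.Etcore.HQ Groth.Agent.Etcore.RpushLoc Groth.Agent.Etbc.H194.Edge
open Groth.Agent.Etbc.H189.CoreDev

namespace K86.Comp

attribute [local instance] pfl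

variable {X Y P XP : Scheme.{u}} {g : X ⟶ Y} {r : P ⟶ Y} {r' : XP ⟶ X} {gP : XP ⟶ P}

theorem cmp_comp (w : gP ≫ r = r' ≫ g) (F : EtCoh.Ab Y) :
    ((EtCore.pullComp gP r).inv.app F ≫ (EtCore.pullCongr w).hom.app F) ≫
      (EtCore.pullCongr w.symm).hom.app F ≫ (EtCore.pullComp gP r).hom.app F = 𝟙 _ := by
  have h1 : (EtCore.pullCongr w).hom.app F ≫ (EtCore.pullCongr w.symm).hom.app F = 𝟙 _ := by
    generalize r' ≫ g = t at w
    subst w
    exact Category.comp_id _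
  rw [Category.assoc, reassoc_of% h1]
  exact (EtCore.pullComp gP r).inv_hom_id_app F

theorem mem_range_iff [Surjective r] [CompactSpace P] [QuasiSeparatedSpace P] [QuasiCompact r] [QuasiSeparated r]
    (w : gP ≫ r = r' ≫ g) {L : Set ℕ} {n : ℕ} (hg : EtAcyc.CompN g L n)
    (hbc : ∀ E : EtCoh.Ab P, EtAcyc.IsLTorsion L E → ∀ i : ℕ, i ≤ n → IsIso (K557.BcQ.bq w i E))
    (F : EtCoh.Ab Y) (hF : EtAcyc.IsLTorsion L F) (ξ : HH X ((EtCoh.pull g).obj F) (n + 1)) :
    (∃ x : HH Y F (n + 1), hp g F (n + 1) x = ξ) ↔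
      ∃ η : HH P ((EtCoh.pull r).obj F) (n + 1), hpVia gP r (r' ≫ g) w F (n + 1) η =
        hpVia r' g (r' ≫ g) rfl F (n + 1) ξ := by
  constructor
  · rintro ⟨x, rfl⟩
    exact ⟨hp r F (n + 1) x, by rw [hpVia_hp, hpVia_hp]⟩
  · rintro ⟨η, hη⟩
    refine mem_range w hg hbc F hF ξ η ?_
    rw [FieldDesc621.cmp_app]
    rw [hpVia_apply, hpVia_apply] at hη
    have h1 : (EtCore.pullComp r' g).inv.app F ≫ (EtCore.pullCongr (rfl : r' ≫ g = r' ≫ g)).hom.app F =
      (EtCore.pullComp r' g).inv.app F := Category.comp_id _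
    rw [h1] at hη
    rw [HHmap_comp, ← hη, ← HHmap_comp, cmp_comp w F, HHmap_id]

end K86.Comp
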